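import Groth.Prelude.Def_Adeq
import Mathlib.Algebra.Category.ModuleCat.Presheaf.Abelian
import Mathlib.Algebra.Category.ModuleCat.Presheaf.Colimits
import Mathlib.Algebra.Category.Grp.AB
import Mathlib.CategoryTheory.Abelian.GrothendieckCategory.Basic
import Mathlib.CategoryTheory.Abelian.GrothendieckAxioms.FunctorCategory
import Mathlib.CategoryTheory.Abelian.GrothendieckCategory.EnoughInjectives
import Mathlib.Algebra.Module.ULift
import Mathlib.Algebra.Category.ModuleCat.Presheaf.Sheafification
import Mathlib.CategoryTheory.Functor.EpiMono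
import Mathlib.Algebra.Category.ModuleCat.Presheaf.EpiMono

/-!
Module-valued functors on algebras form a Grothendieck abelian category.
-/

set_option autoImplicit false
set_option linter.style.haveILetI false
set_option backward.isDefEq.respectTransparency false
universe u

noncomputable section

namespace Groth.Agent.MVFGro

open CategoryTheory Limits Opposite

variable {A : Type u} [CommRing A]

instance ab5 : AB5OfSize.{u + 1, u + 1} (Adeq.MVF A) where
  ofShape K _ _ := by
    have : (PresheafOfModules.toPresheaf.{u + 1} (Adeq.ringOf A)).ReflectsIsomorphisms := inferInstance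
    have : ReflectsFiniteLimits (PresheafOfModules.toPresheaf.{u + 1} (Adeq.ringOf A)) :=
      ⟨fun _ _ _ => reflectsLimitsOfShape_of_reflectsIsomorphisms⟩
    exact HasExactColimitsOfShape.domain_of_functor K (PresheafOfModules.toPresheaf.{u + 1} (Adeq.ringOf A))

/-- Transition map of the free functor on an algebra. -/
def genMap (X : Adeq.Alg A) {Y Y' : Adeq.Alg A} (f : Y ⟶ Y') :
    ((X ⟶ Y) →₀ ULift.{u + 1} Y) →+ ((X ⟶ Y') →₀ ULift.{u + 1} Y') :=
  Finsupp.liftAddHom fun h => (Finsupp.singleAddHom (h ≫ f)).comp
    { toFun := fun r => ULift.up (f.hom r.down)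
      map_zero' := by simp; rfl
      map_add' := fun r s => by simp; rfl }

lemma genMap_single (X : Adeq.Alg A) {Y Y' : Adeq.Alg A} (f : Y ⟶ Y') (h : X ⟶ Y)
    (r : ULift.{u + 1} Y) :
    genMap X f (Finsupp.single h r) = Finsupp.single (h ≫ f) (ULift.up (f.hom r.down)) :=
  Finsupp.liftAddHom_apply_single _ _ _

/-- The underlying functor of the free module-valued functor on an algebra. -/
abbrev genAb (X : Adeq.Alg A) : (Adeq.Alg A)ᵒᵖᵒᵖ ⥤ Ab.{u + 1} where
  obj Y := AddCommGrpCat.of ((X ⟶ Y.unop.unop) →₀ ULift.{u + 1} Y.unop.unop)
  map f := AddCommGrpCat.ofHom (genMap X f.unop.unop)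
  map_id Y := by
    apply AddCommGrpCat.ext
    intro x
    change genMap X (𝟙 Y.unop.unop) x = x
    induction x using Finsupp.induction_linear with
    | zero => simp
    | add a b ha hb => rw [map_add, ha, hb]
    | single h r => rw [genMap_single]; simp
  map_comp f g := by
    apply AddCommGrpCat.ext
    intro x
    change genMap X (f.unop.unop ≫ g.unop.unop) x = genMap X g.unop.unop (genMap X f.unop.unop x)
    induction x using Finsupp.induction_linear with
    | zero => simp
    | add a b ha hb => rw [map_add, map_add, map_add, ha, hb]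
    | single h r => rw [genMap_single, genMap_single, genMap_single]; simp

/-- The free module-valued functor on an algebra. -/
def gen (X : Adeq.Alg A) : Adeq.MVF A :=
  PresheafOfModules.ofPresheaf (genAb X) (by
    intro Y Y' f r m
    change genMap X f.unop.unop (r • m) = f.unop.unop.hom r • genMap X f.unop.unop m
    induction m using Finsupp.induction_linear with
    | zero => simp
    | add a b ha hb => rw [smul_add, map_add, map_add, smul_add, ha, hb]
    | single h s =>
      rw [Finsupp.smul_single, genMap_single, genMap_single, Finsupp.smul_single]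
      congr 1
      ext
      exact map_mul f.unop.unop.hom r s.down)

/-- Components of the morphism out of `gen X` given by an element. -/
def homApp {X : Adeq.Alg A} {F : Adeq.MVF A} (x : F.obj (Adeq.pt X)) (Y : Adeq.Alg A) :
    ((X ⟶ Y) →₀ ULift.{u + 1} Y) →+ F.obj (Adeq.pt Y) :=
  Finsupp.liftAddHom fun h =>
    { toFun := fun r => r.down • (F.map (Adeq.ptHom h) x : F.obj (Adeq.pt Y))
      map_zero' := zero_smul _ _
      map_add' := fun r s => add_smul _ _ _ }

lemma homApp_single {X : Adeq.Alg A} {F : Adeq.MVF A} (x : F.obj (Adeq.pt X)) (Y : Adeq.Alg A)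
    (h : X ⟶ Y) (r : ULift.{u + 1} Y) :
    homApp x Y (Finsupp.single h r) = r.down • (F.map (Adeq.ptHom h) x : F.obj (Adeq.pt Y)) :=
  Finsupp.liftAddHom_apply_single _ _ _

/-- The morphism out of `gen X` given by an element. -/
def hom {X : Adeq.Alg A} {F : Adeq.MVF A} (x : F.obj (Adeq.pt X)) : gen X ⟶ F :=
  PresheafOfModules.homMk
    { app := fun Y => AddCommGrpCat.ofHom (homApp x Y.unop.unop)
      naturality := fun Y Y' f => by
        apply AddCommGrpCat.ext
        intro m
        change homApp x Y'.unop.unop (genMap X f.unop.unop m) = F.map f (homApp x Y.unop.unop m)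
        induction m using Finsupp.induction_linear with
        | zero => rw [map_zero, map_zero, map_zero]; exact (map_zero (F.map f).hom).symm
        | add a b ha hb => rw [map_add, map_add, map_add, ha, hb]; exact (map_add (F.map f).hom _ _).symm
        | single h r =>
          rw [genMap_single, homApp_single, homApp_single]
          change _ = F.map f (r.down • F.map (Adeq.ptHom h) x)
          rw [PresheafOfModules.map_smul, ← PresheafOfModules.map_comp_apply]
          rfl }
    (fun Y r m => by
      change homApp x Y.unop.unop (r • m) = r • homApp x Y.unop.unop m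
      induction m using Finsupp.induction_linear with
      | zero => simp
      | add a b ha hb => rw [smul_add, map_add, map_add, smul_add, ha, hb]
      | single h s =>
        rw [Finsupp.smul_single, homApp_single, homApp_single]
        exact mul_smul r s.down _)

lemma hom_self {X : Adeq.Alg A} {F : Adeq.MVF A} (x : F.obj (Adeq.pt X)) :
    (hom x).app (Adeq.pt X) (Finsupp.single (𝟙 X) (ULift.up 1)) = x := by
  change homApp x X (Finsupp.single (𝟙 X) (ULift.up 1)) = x
  rw [homApp_single, one_smul]
  change F.map (𝟙 (Adeq.pt X)) x = x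
  rw [F.map_id]
  rfl

theorem isSeparating : ObjectProperty.IsSeparating (ObjectProperty.ofObj (gen (A := A))) := by
  intro M N f₁ f₂ h
  ext Y m
  obtain ⟨⟨Z⟩⟩ := Y
  have h1 := h _ ⟨Z⟩ (hom (X := Z) m)
  have h2 := congrArg (fun (k : gen Z ⟶ N) =>
    k.app (Adeq.pt Z) (Finsupp.single (𝟙 Z) (ULift.up 1))) h1
  change f₁.app _ ((hom m).app _ _) = f₂.app _ ((hom m).app _ _) at h2
  rwa [hom_self] at h2

instance isGrothendieckAbelian : IsGrothendieckAbelian.{u + 1} (Adeq.MVF A) where
  hasFilteredColimitsOfSize := ⟨fun _ _ _ => inferInstance⟩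
  hasSeparator := ⟨∐ gen (A := A), (isSeparator_sigma _).2 isSeparating⟩

end Groth.Agent.MVFGro
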